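/-
The involutions of the third Janko group and their centraliser `2^{1+4} : A₅`.
-/
import Cfsg.Agent.Lib.J2.FusJ3
import Cfsg.Agent.Lib.Comp.J3x.Main
import Cfsg.Agent.Lib.Comp.Big2

set_option autoImplicit false
set_option maxRecDepth 100000

namespace Cfsg.Lib.J3

open Subgroup MulAction Cfsg.Lib.Golay Cfsg.Lib.Known2 Cfsg.Lib.J2
open Cfsg.Lib.Comp (Net gp ev cl clw TbA wap wap_eq look NetsOK wimg pat force ones mem_cl ev_mem)
open scoped Pointwise

/-- the word `w` acts on the points `pt j` as the code `m` on the `j`. -/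
def RB (tb : ℕ → ℕ → ℕ) (n : ℕ) (pt : ℕ → ℕ) (w : List ℕ) (m : ℕ) : Prop :=
  band (isPerm n m) (allN n fun j => Nat.beq (wap tb w (pt (app m j))) (pt j)) = true

noncomputable instance decRB (tb : ℕ → ℕ → ℕ) (n : ℕ) (pt : ℕ → ℕ) (w : List ℕ) (m : ℕ) : Decidable (RB tb n pt w m) :=
  inferInstanceAs (Decidable (_ = true))

theorem restr {n : ℕ} [NeZero n] (hn : n ≤ 256) {nets : List Net} {tb : ℕ → ℕ → ℕ} (ht : TbA nets tb) {pt : ℕ → ℕ}
    (hi : Function.Injective fun j : Fin n => pt j) {W : List (List ℕ)} {ms : List ℕ}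
    (hW : List.Forall₂ (RB tb n pt) W ms) : (∀ m ∈ ms, (finCoding n hn).Valid m) ∧
    ∃ ρ : clw (gp nets) W →* (finCoding n hn).gen ms, Function.Surjective ρ ∧
      ∀ g w m, RB tb n pt w m → g.1 = ev (gp nets) w → (ρ g).1 = (finCoding n hn).dec m := by
  have k : ∀ {w m}, RB tb n pt w m → (finCoding n hn).Valid m ∧
      ∀ j : Fin n, ev (gp nets) w (pt j) = pt ((finCoding n hn).dec m j) := fun {w m} h => by
    obtain ⟨h1, h2⟩ := band_iff.1 h
    have v := (finCoding n hn).valid_of_isPerm h1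
    refine ⟨v, fun j => ?_⟩
    have := beq_iff.1 (allN_iff.1 h2 j j.2)
    rw [wap_eq ht, Equiv.Perm.inv_eq_iff_eq] at this
    exact this.symm.trans (congrArg pt (v.idx_dec j).symm)
  have hv : ∀ m ∈ ms, ∃ w ∈ W, RB tb n pt w m := fun m hm => by
    obtain ⟨i, hi, rfl⟩ := List.getElem_of_mem hm
    exact ⟨_, List.getElem_mem (hW.length_eq ▸ hi), hW.get (hW.length_eq ▸ hi) hi⟩
  have hv' : ∀ m ∈ ms, (finCoding n hn).Valid m := fun m hm => (hv m hm).elim fun _ h => (k h.2).1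
  obtain ⟨ρ, hρ⟩ := exists_hom_of_label (L := (finCoding n hn).gen ms) (K := clw (gp nets) W) rfl
    (fun j : Fin n => pt j) (fun l h => Subtype.ext (Equiv.ext fun j => hi (h j))) (by
      rintro _ ⟨w, hw, rfl⟩
      obtain ⟨i, hi, rfl⟩ := List.getElem_of_mem hw
      have hm := List.getElem_mem (hW.length_eq ▸ hi : i < ms.length)
      exact ⟨⟨_, (Coding.inH_gen hv' _ hm).2⟩, (k (hW.get hi (hW.length_eq ▸ hi))).2⟩)
  have h3 : ∀ g w m, RB tb n pt w m → g.1 = ev (gp nets) w → (ρ g).1 = (finCoding n hn).dec m := fun g w m h e =>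
    Equiv.ext fun j => hi ((hρ g j).symm.trans (e ▸ (k h).2 j))
  refine ⟨hv', ρ, fun y => ?_, h3⟩
  obtain ⟨_, ⟨x, rfl⟩, e⟩ := Coding.gen_le (H := ρ.range.map (Subgroup.subtype _)) (fun m hm => by
    obtain ⟨w, hw, h⟩ := hv m hm
    exact ⟨hv' m hm, _, ⟨⟨_, subset_closure ⟨w, hw, rfl⟩⟩, rfl⟩, h3 _ w m h rfl⟩) y.2
  exact ⟨x, Subtype.ext e⟩

/-- all fixed points of `w` below `n` are in `F`. -/
noncomputable def fixB (nets : List Net) (k n : ℕ) (w F : List ℕ) : Bool :=
  Nat.beq (Nat.land (Nat.rec (motive := fun _ => ℕ) (List.rec 0 (fun p _ r => Nat.lor (Nat.shiftLeft 1 p) r) F)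
    (fun j A => force (pat k j) fun P => force (Nat.lor A (Nat.xor (wimg nets w P) P)) fun B => B) k) (ones n)) (ones n)

theorem mem_of_fixB {N k n : ℕ} {nets : List Net} (hN : NetsOK N nets) {w F : List ℕ} (h : fixB nets k n w F = true)
    {i : ℕ} (hi : i < n) (he : ev (gp nets) w i = i) : i ∈ F := by
  by_contra hF
  have h1 := congrArg (fun x => Nat.testBit x i) (beq_iff.1 h)
  have h0 : Nat.testBit (List.rec (motive := fun _ => ℕ) 0 (fun p _ r => Nat.lor (Nat.shiftLeft 1 p) r) F) i = false := by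
    clear h h1
    induction F with
    | nil => simp
    | cons p F ih =>
      rw [List.mem_cons, not_or] at hF
      change Nat.testBit (Nat.lor _ _) i = false
      rw [lor_eq', Nat.testBit_or, ih hF.2, shl_eq', Nat.one_shiftLeft, Nat.testBit_two_pow_of_ne (Ne.symm hF.1)]
      rfl
  have h2 : ∀ m, Nat.testBit (Nat.rec (motive := fun _ => ℕ) (List.rec 0 (fun p _ r => Nat.lor (Nat.shiftLeft 1 p) r) F)
      (fun j A => force (pat k j) fun P => force (Nat.lor A (Nat.xor (wimg nets w P) P)) fun B => B) m) i = false := by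
    intro m
    induction m with
    | zero => exact h0
    | succ m ih =>
      have : (ev (gp nets) w)⁻¹ i = i := by rw [Equiv.Perm.inv_eq_iff_eq, he]
      simp only [Comp.force_eq] at ih ⊢
      rw [lor_eq', xor_eq', Nat.testBit_or, ih, Nat.testBit_xor, Comp.testBit_wimg hN, this]
      simp
  simp only [land_eq', Nat.testBit_and, h2, Comp.testBit_ones, hi, Bool.false_and, decide_true] at h1
  exact absurd h1 (by simp)

theorem rank_le {G : Type*} [Group G] {Q : Subgroup G} {z : G}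
    (h : ∀ x ∈ Q, ∀ y ∈ Q, x * x = 1 → y * y = 1 → x * y = y * x → x = 1 ∨ x = z ∨ y = 1 ∨ y = z ∨ y = x ∨ y = x * z)
    {A : Type*} [Group A] (f : A →* G) (hf : Function.Injective f) (hQ : ∀ a, f a ∈ Q) (E : Subgroup A)
    (hE : IsElementaryAbelian 2 E) : Nat.card E ≤ 2 ^ 2 := by
  obtain ⟨x, hx⟩ : ∃ x, ∀ y ∈ E, f y ∈ ({1, z, x, x * z} : Set G) := by
    by_cases k : ∃ a ∈ E, f a ≠ 1 ∧ f a ≠ z
    · obtain ⟨a, ha, k1, k2⟩ := k
      refine ⟨f a, fun y hy => ?_⟩
      have s : ∀ a ∈ E, f a * f a = 1 := fun a ha => by rw [← map_mul, ← pow_two, hE.2 a ha, map_one]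
      exact ((h _ (hQ a) _ (hQ y) (s a ha) (s y hy) (by
        rw [← map_mul, ← map_mul, show a * y = y * a from congrArg Subtype.val
          (hE.1.is_comm.comm (⟨a, ha⟩ : E) ⟨y, hy⟩)])).resolve_left k1).resolve_left k2
    · push Not at k
      exact ⟨1, fun y hy => (eq_or_ne (f y) 1).imp_right fun e => Or.inl (k y hy e)⟩
  exact (Set.ncard_le_ncard_of_injOn (s := (E : Set A)) f hx hf.injOn (Set.toFinite _)).trans
    ((Set.ncard_insert_le _ _).trans (Nat.succ_le_succ ((Set.ncard_insert_le _ _).trans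
      (Nat.succ_le_succ ((Set.ncard_insert_le _ _).trans (by simp))))))

/-- the coding of `Fin 80`. -/
noncomputable abbrev c80 : Coding (Fin 80) := finCoding 80 (by norm_num)

/-- generators of the model. -/
def ms : List ℕ := [0x1115222b142c1e29231d1c2f2a281b1218131a241f162d26102520211719272e4430394a4c4348423138363c474d34353b494645413d323f333a4e4b3e404f370f0e0b0c0d0a08090001040502030607,
  0x323c0d1e400b261304184e16143b011d030a2700394c4123451249193e0f362024062c2931072a3f0e4d3a4433212e1c09054a083d1b284f300c221f10024347382f4b1a35461711152d2b3448253742]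

/-- its central involution. -/
def zz : ℕ := 0x33394a36354d40343f383b3d30373c494732444145314e46424c4b484f3e3a431a2a1522252e2110161d2b1b182c29141c12261f242f132311272d20191e17280a0c0b0e0d0f08090607020304050001

/-- the other classes of involutions. -/
def zs : List ℕ := [zz, 0x3f324c4d45363440333a4b41424344484f393c3d35463e31304a3b49474e3837192024171814271c2912232d2511162e101d1e2815132f2b2c211b2a1a26221f0e0f090a080c0d0b0706050304020001,
  0x363d4733373f31464d4830393b353e3a4a414e32434044344b4f42384c3c49452d1c2f18171f1d201e211119222326282a27292e1315242c2b121a101b1625140a0c0b0e0d0f08090706050403020100]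

/-- generators of the normal subgroup. -/
noncomputable def qs : List ℕ := mapL (wordN 80 ms)
  [[0, 1, 1, 1, 0, 1, 0, 1, 1, 1, 0, 1], [0, 1, 1, 0, 1, 1, 0, 1, 1], [1, 0, 1, 1, 0, 1, 1, 0, 1], [1, 1, 0, 1, 1, 0, 1, 1, 0]]

/-- generators of the complement. -/
noncomputable def ks : List ℕ := mapL (wordN 80 ms) [[0], [1, 1, 1, 0, 1, 0, 1, 1, 0]]

/-- five sets permuted by the model. -/
def lab : Fin 5 → ℕ := ![0xffff, 0xd0102248034320110000, 0x94401b0a82004a20000, 0x2482d0044480d0440000,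
  0x2290c03101c0b080000]

theorem ms_inH : ∀ g ∈ ms, c80.InH (c80.gen ms) g := Coding.inH_gen (valid_of_allL (by decide +kernel))

theorem zs_valid : ∀ g ∈ zs, c80.Valid g := valid_of_allL (by decide +kernel)

theorem card_M : Nat.card (c80.gen ms) = 1920 :=
  Coding.card_gen (fun g hg => (ms_inH g hg).1) (M := 1021) (d := 10) (a := 32) (by decide +kernel)

theorem invol {g : Equiv.Perm (Fin 80)} (hg : g ∈ c80.gen ms) (h1 : g ^ 2 = 1) (h2 : g ≠ 1) :
    ∃ z ∈ zs, ∃ k ∈ c80.gen ms, g = k * c80.dec z * k⁻¹ :=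
  Coding.prime_classes ms_inH Nat.prime_two (one_mul _).symm (by norm_num) (T := mapL (idN 80, ·) zs)
    (fun g hg => by
      obtain rfl : g = idN 80 := by revert g; decide +kernel
      exact Coding.inH_one _) zs_valid (by decide +kernel) (by decide +kernel) hg h1 h2

theorem str {C : Type*} [Group C] (e : C ≃* c80.gen ms) : ∃ (Q : Subgroup C) (_ : Q.Normal), IsExtraspecial 2 Q ∧
    Nat.card Q = 32 ∧ (∀ E : Subgroup Q, IsElementaryAbelian 2 E → Nat.card E ≤ 2 ^ 2) ∧
    (∃ H : Subgroup C, Q.IsComplement' H) ∧ Nonempty (C ⧸ Q ≃* alternatingGroup (Fin 5)) := by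
  have hq : ∀ g ∈ qs, c80.InH (c80.gen ms) g := Coding.inH_words ms_inH _
  have hk : ∀ g ∈ ks, c80.InH (c80.gen ms) g := Coding.inH_words ms_inH _
  have zv := zs_valid zz List.mem_cons_self
  obtain ⟨q1, q2⟩ := esCert_spec (k := 32) (fun g hg => (hq g hg).1) zv (by decide +kernel)
  have hL : Nat.card (alternatingGroup (Fin 5)) = 60 := by rw [nat_card_alternatingGroup]; simp; rfl
  have hv : ∀ v, c80.setCode.V (lab v) := fun v => show _ < 2 ^ 80 by revert v; decide +kernel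
  obtain ⟨φ, h1, h2, -⟩ := Coding.label_hom c80.setCode (imgN 80) rfl (fun g hg => hg.1.impl_set) ms_inH
    (fun (l : alternatingGroup (Fin 5)) (v : Fin 5) => l.1 v) (fun _ => rfl) (fun _ _ _ => rfl) lab hv
    (fun l h => Subtype.ext (Equiv.ext fun v => (show Function.Injective lab by decide +kernel) (h v)))
    [⟨Equiv.swap 1 2 * Equiv.swap 3 4, Equiv.Perm.mem_alternatingGroup.2 (by decide)⟩,
      ⟨Equiv.swap 0 3 * Equiv.swap 0 1 * Equiv.swap 0 4 * Equiv.swap 0 2, Equiv.Perm.mem_alternatingGroup.2 (by decide)⟩]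
    (by decide +kernel) [(0xffff, 5, [[1, 1, 1, 0, 1, 0, 1], [0]]), (0xd0102248034320110000, 4, [[0, 1], [0, 0, 0]]),
      (0x94401b0a82004a20000, 3, [])] (by decide +kernel) (by decide +kernel) hL.le
  have h3 := card_ker_of_surj φ h1 (b := 32) (by rw [card_M, hL])
  have h4 : φ.ker.map (Subgroup.subtype _) = c80.gen qs := (eq_of_le_of_card_ge (Coding.gen_le fun g hg => ⟨(hq g hg).1,
    mem_map.2 ⟨⟨_, (hq g hg).2⟩, (h2 _).mpr fun v => (c80.setCode.smul_eq_iff (hq g hg).1.impl_set (hv v)).mpr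
      (by revert v g; decide +kernel), rfl⟩⟩) (by rw [card_subtype, h3, q1])).symm
  obtain ⟨N, hN, a, b, c⟩ := exists_normal_of_hom e φ h1
  let f := (c80.gen ms).subtype.comp e.toMonoidHom
  have hf : Function.Injective f := (subtype_injective _).comp e.injective
  have k : N.map f = c80.gen qs := by
    rw [← h4, ← map_map]; congr 1; ext x; obtain ⟨x, rfl⟩ := e.surjective x
    exact (mem_map_iff_mem e.injective).trans (b x)
  have : Finite C := Finite.of_equiv _ e.symm.toEquiv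
  obtain ⟨z, -, hz⟩ := es_of_map f hf (k ▸ q2)
  obtain ⟨K, -, k1, k2⟩ := exists_subgroup_transport e (Coding.gen_le hk)
  obtain ⟨k3, k4, -⟩ := Coding.normal_cert (gs := []) (by simp) (fun g hg => (hk g hg).1) (M := 251) (d := 8) (a := 2)
    (n := 60) (q := fun y => bor (Nat.beq y (idN 80)) (anyL [0, 1, 2, 3, 4] fun v =>
      bnot (Nat.beq (imgN 80 y (lab v)) (lab v)))) (by decide +kernel)
  refine ⟨N, hN, hz.isExtraspecial, a.trans h3, rank_le (Q := c80.gen qs) (z := c80.dec zz) ?_ (f.comp N.subtype)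
    (hf.comp (subtype_injective _)) fun x => k ▸ mem_map_of_mem f x.2, ⟨K, isComplement'_of_card_mul_and_disjoint
      (by rw [a, h3, k1, k3, Nat.card_congr e.toEquiv, card_M]) (disjoint_def.2 fun {x} hx hx' => ?_)⟩, c⟩
  · obtain ⟨mem, t, L, a1, hE, -⟩ := Coding.enum_gen (fun g hg => (hq g hg).1) (M := 251) (d := 8) (a := 1)
      (k := fun _ L => allL L fun x => bor (bnot (Nat.beq (mulN 80 x x) (idN 80))) (allL L fun y =>
        bor (bnot (Nat.beq (mulN 80 y y) (idN 80))) (bor (bnot (Nat.beq (mulN 80 x y) (mulN 80 y x)))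
          (bor (Nat.beq x (idN 80)) (bor (Nat.beq x zz) (bor (Nat.beq y (idN 80)) (bor (Nat.beq y zz)
            (bor (Nat.beq y x) (Nat.beq y (mulN 80 x zz)))))))))) (by decide +kernel)
    simp only [allL_iff, bor_iff, bnot_iff, beq_iff, beq_false_iff] at a1
    refine hE.forall fun x hx vx => hE.forall fun y hy vy => ?_
    change c80.dec x * c80.dec x = 1 → c80.dec y * c80.dec y = 1 → c80.dec x * c80.dec y = c80.dec y * c80.dec x →
      c80.dec x = 1 ∨ c80.dec x = _ ∨ c80.dec y = 1 ∨ c80.dec y = _ ∨ c80.dec y = c80.dec x ∨ c80.dec y = c80.dec x * _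
    rw [← vx.dec_mul vx, ← vy.dec_mul vy, ← vx.dec_mul vy, ← vy.dec_mul vx, ← vx.dec_mul zv, (vx.mul vx).dec_eq_one_iff,
      (vy.mul vy).dec_eq_one_iff, vx.dec_eq_one_iff, vy.dec_eq_one_iff, (vx.mul vy).dec_inj (vy.mul vx), vx.dec_inj zv,
      vy.dec_inj zv, vy.dec_inj vx, vy.dec_inj (vx.mul zv)]
    exact fun e1 e2 e3 => ((((a1 x hx).resolve_left (not_not.2 e1)) y hy).resolve_left (not_not.2 e2)).resolve_left
      (not_not.2 e3)
  · obtain ⟨y, vy, e1, e2⟩ := k4 _ ((k2 x).1 hx')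
    refine hf (e1.symm.trans ((vy.dec_eq_one_iff.2 ((bor_iff.1 e2).elim beq_iff.1 fun e3 => ?_)).trans (map_one f).symm))
    obtain ⟨v, -, e3⟩ := anyL_iff.1 e3
    have := (c80.setCode.smul_eq_iff vy.impl_set (hv v)).1 (e1 ▸ (h2 _).1 ((b x).1 hx) v)
    exact absurd this (bnot_iff.1 e3)

open Comp.J3x

/-- point evaluation. -/
noncomputable abbrev tbl (x p : ℕ) : ℕ := Comp.ptInv (Comp.nth Net.nil nets x) p

theorem exactJ : Comp.Exact nets [([1,2,3,4,5],[6,1,1,3,5,6,1,3,6,1,5,1,3,6,1,5,3,1,6,1,3,5],0,0,6156),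
    ([1,2,3,4],[5,1,3,1,5,1,3,5,1,3,5,1],1,1,85), ([],[1,3,1,3,1,3,1,3,1,3,1],4116,4116,96)] L :=
  Comp.exact_of_beq card.le (by decide +kernel)

theorem eqJ {u w : List ℕ} (h : Comp.eqP tbl [0, 1, 4116] L u 1 w = true) : ev (gp nets) u = ev (gp nets) w :=
  (pow_one _).symm.trans (exactJ.eq nets_ok (Comp.tbA_pt nets_ok) h)

theorem card_CH : Nat.card ↥(cl (gp nets) [1, 2, 3, 4, 5] ⊓ centralizer {gp nets 5}) ≤ 32 := by
  obtain ⟨-, -, -, -, -, a⟩ := exactJ.cons nets_ok
  rw [card] at a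
  have e : clw (gp nets) [[1], [2], [3], [4], [5]] = cl (gp nets) [1, 2, 3, 4, 5] :=
    Comp.clw_eq_cl (by simp [Comp.ev_single])
  obtain ⟨z, hz⟩ : ∃ z, z = 0x1946380650113d1b1030252c1a1c53453b0c0e3c0802164e4144002f5224271e0a01261d4b39030d4920292a2836324a3707220f2b153531474d48540b093e1f1314124f4c21422d4318341740235104052e3f333a := ⟨_, rfl⟩
  obtain ⟨hv, ρ, h1, h2⟩ := restr (n := 85) (by norm_num) (Comp.tbA_pt nets_ok) (pt := (· + 1))
    (fun _ _ h => Fin.ext (Nat.succ.inj h)) (W := [[1], [2], [3], [4], [5]]) (ms := [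
      0x4044383d4e504746495436513a4f3e533741433f3b423c4c4d4b4a35394548521f16222a1b2b29332e25232620282c1a2d151d191e1c271817212f30323424310f0e1407110c0d08120a090613050b100304010200,
      0x4b4535494f47503c3d3b3a4c364e4d3753423f43544146513e40483852444a39172d1815191a2c24262f312e271e292b162a321b283420221f3025211d1c332312080c100514130e0f060b0a0d1109070304010200,
      0x4c3f3948504d3a413c403b38375253454b4a354f4446494e54433d473e5142362a312f1d252c2b2732201a2128151623293022242e1e17332618341b191f1c2d051412100b0a0d090811060e070c0f130403020100,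
      0x3c46473750413d4f5444433e51393f45403b364d4b53383a4c4a4e52494835421a1d2c33233220152f2e3424282d1c30212522292b171f3116192a181b1e26271305120b1106090e07100f0d0c080a140403020100,
      z]) (by rw [hz]; decide +kernel)
  have h3 := Coding.ncard_orbitH (finCoding 85 (by norm_num)).conjCode (conjN 85) rfl (fun g hg => (hv g hg).impl_conj)
    (hv z (by simp)) (n := 255) (M := 251) (d := 8) (a := 5) (by rw [hz]; decide +kernel)
  rw [← index_stabilizer, ← index_comap_of_surjective _ h1] at h3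
  have h4 : ((centralizer {gp nets 5}).subgroupOf (clw (gp nets) [[1], [2], [3], [4], [5]])).index ≥ 255 := by
    have := nets_ok.finite [1, 2, 3, 4, 5]
    rw [← e] at this
    refine Nat.le_of_dvd (Nat.pos_of_ne_zero FiniteIndex.index_ne_zero) (h3 ▸ index_dvd_of_le fun g hg => ?_)
    have k := h2 ⟨_, e.ge (mem_cl (x := 5) (by simp))⟩ [5] z (by rw [hz]; decide +kernel) (Comp.ev_single (gp nets) 5).symm
    refine (smul_toCj (ρ g).1 _).trans (congrArg toCj (mul_inv_eq_iff_eq_mul.2 ?_))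
    change (ρ g).1 * (finCoding 85 _).dec z = (finCoding 85 _).dec z * _
    rw [← k, ← coe_mul, ← coe_mul, ← map_mul, ← map_mul]
    exact congrArg (fun x => (ρ x).1) (Subtype.ext (mem_centralizer_singleton_iff.1 hg))
  have h5 := ((centralizer {gp nets 5}).subgroupOf (cl (gp nets) [1, 2, 3, 4, 5])).card_mul_index
  rw [e] at h4
  rw [card_subgroupOf, show Nat.card (cl (gp nets) [1, 2, 3, 4, 5]) = 8160 by omega] at h5
  nlinarith

theorem card_C : Nat.card ↥(cl (gp nets) L ⊓ centralizer {gp nets 5}) ≤ 76 * 32 := by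
  obtain ⟨-, a1, a2, a3, -, -⟩ := exactJ.cons nets_ok
  have := nets_ok.finite [1, 2, 3, 4, 5]
  have : Finite ↥(cl (gp nets) [1, 2, 3, 4, 5] ⊓ centralizer {gp nets 5}) :=
    .of_injective _ (inclusion_injective inf_le_left)
  rw [card_eq_orbit_mul _ 0]
  refine Nat.mul_le_mul ?_ ((card_le_of_le fun g hg => mem_inf.2 ?_).trans card_CH)
  · obtain ⟨F, hF⟩ : ∃ F : List ℕ, F = [0, 19, 35, 41, 70, 81, 95, 99, 111, 149, 162, 173, 183, 184, 254, 294, 342, 412,
      501, 510, 560, 595, 603, 606, 657, 658, 676, 678, 762, 835, 909, 1094, 1154, 1164, 1288, 1375, 1407, 1479, 1637,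
      1793, 1856, 2003, 2145, 2233, 2311, 2427, 2514, 2516, 2600, 2617, 2713, 2742, 2761, 2829, 2966, 3101, 3193, 3252,
      3330, 3380, 3526, 3623, 3672, 3689, 3741, 3773, 3859, 4110, 4191, 4337, 5262, 5725, 5835, 5928, 6033, 6125] :=
      ⟨_, rfl⟩
    refine (Set.ncard_le_ncard (t := F.toFinset) (fun p hp => ?_) (Finset.finite_toSet _)).trans
      ((Set.ncard_coe_finset _).trans_le (F.toFinset_card_le.trans (by rw [hF]; rfl)))
    obtain ⟨g, hg, rfl⟩ := mem_orbit_subgroup.1 hp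
    refine List.mem_toFinset.2 (mem_of_fixB nets_ok (k := 13) (n := 6156) (w := [5]) (by rw [hF]; decide +kernel)
      (a3 g hg.1).2 ?_)
    rw [Comp.ev_single, Equiv.Perm.smul_def, ← Equiv.Perm.mul_apply, ← mem_centralizer_singleton_iff.1 hg.2,
      Equiv.Perm.mul_apply, (a2 _ (mem_cl (by decide))).2 (mem_cl (by simp))]
  · exact ⟨(a2 g hg.1.1).1 hg.2, hg.1.2⟩

/-- the 80 points. -/
noncomputable def pts (j : ℕ) : ℕ := look 0x1740171c16d4167f15e815ba1534152714f414dc14c0149c14691468140813d713b613a3135313251314123011d611c2117111341130110510bf10b9106310150aa60aa50a9c0a780a4c0a0709e209c3098d08bf08b408af086a085f0854084e081d080d079e07680764072906ed06dc06b306750670062f061305db05bc05a0053a04c20470046304350382034802fe02b4021201e801b701960150014900f9 16 j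

theorem cent : ∃ e : ↥(cl (gp nets) L ⊓ centralizer {gp nets 5}) ≃* c80.gen ms,
    ∀ g w m, RB tbl 80 pts w m → g.1 = ev (gp nets) w → (e g).1 = c80.dec m := by
  obtain ⟨-, ρ, h1, h2⟩ := restr (n := 80) (by norm_num) (Comp.tbA_pt nets_ok) (pt := pts) (by decide +kernel)
    (W := [[6], [3, 2, 6, 5, 2, 6, 3, 1, 1, 4]]) (ms := ms) (by decide +kernel)
  have := nets_ok.finite L
  have h3 : clw (gp nets) [[6], [3, 2, 6, 5, 2, 6, 3, 1, 1, 4]] ≤ cl (gp nets) L ⊓ centralizer {gp nets 5} :=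
    (closure_le _).2 (by
      rintro _ ⟨w, hw : w ∈ _, rfl⟩
      replace hw : w ∈ [[6], [3, 2, 6, 5, 2, 6, 3, 1, 1, 4]] := hw
      refine ⟨ev_mem fun x hx => mem_cl (by revert x w; decide), mem_centralizer_singleton_iff.2 ?_⟩
      have := eqJ (u := w ++ [5]) (w := 5 :: w) (by revert w; decide +kernel)
      rwa [Comp.ev_append, Comp.ev_single] at this)
  have : Finite ↥(cl (gp nets) L ⊓ centralizer {gp nets 5}) := .of_injective _ (inclusion_injective inf_le_left)
  have : Finite (clw (gp nets) [[6], [3, 2, 6, 5, 2, 6, 3, 1, 1, 4]]) := .of_injective _ (inclusion_injective h3)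
  obtain ⟨a, ha⟩ := card_dvd_of_surjective ρ h1
  obtain ⟨b, hb⟩ := card_dvd_of_le h3
  have h4 := card_C
  have h5 : 0 < Nat.card ↥(cl (gp nets) L ⊓ centralizer {gp nets 5}) := Nat.card_pos
  rw [card_M] at ha
  rw [hb, ha, mul_assoc] at h4 h5
  have h6 : a * b = 1 := by omega
  obtain rfl := Nat.eq_one_of_mul_eq_one_right h6
  obtain rfl := Nat.eq_one_of_mul_eq_one_left h6
  exact ⟨(MulEquiv.subgroupCongr (eq_of_le_of_card_ge h3 (by omega))).symm.trans (MulEquiv.ofBijective ρ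
    ((Nat.bijective_iff_surjective_and_card ρ).2 ⟨h1, by rw [ha, card_M]⟩)), fun g w m a b => h2 _ w m a b⟩

theorem main {G : Type*} [Group G] (f : cl (gp nets) L ≃* G) :
    (∀ x y : G, orderOf x = 2 → orderOf y = 2 → IsConj x y) ∧ ∃ t : G, orderOf t = 2 ∧
      Nonempty (centralizer {t} ≃* c80.gen ms) := by
  have := nets_ok.finite L
  let t : cl (gp nets) L := ⟨gp nets 5, mem_cl (by decide)⟩
  obtain ⟨e, he⟩ : ∃ e : centralizer {t} ≃* c80.gen ms,
      ∀ g w m, RB tbl 80 pts w m → g.1.1 = ev (gp nets) w → (e g).1 = c80.dec m := by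
    obtain ⟨e, he⟩ := cent
    have h := conjTo_centralizer_elem (x := t) (k := 1) (z := gp nets 5) (one_mem _) (by simp [t])
    exact ⟨h.equiv.trans e, fun g w m a b => he _ w m a ((h.coe_equiv g).trans (by simpa using b))⟩
  have k : ∀ x : cl (gp nets) L, orderOf x = 2 → IsConj t x := fun x hx => by
    obtain ⟨g, -, h1⟩ := exists_conj_mem Nat.prime_two (le_top (a := centralizer {t})) (n := 26163)
      (by rw [card_top, card, Nat.card_congr e.toEquiv, card_M]) (by norm_num) (mem_top x) (k := 1)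
      (hx ▸ pow_orderOf_eq_one x : x ^ 2 = 1)
    have h2 : orderOf (e ⟨_, h1⟩).1 = 2 := by
      rw [orderOf_coe, e.orderOf_eq, ← orderOf_coe, ← hx]
      simpa using orderOf_conj' g⁻¹ x
    obtain ⟨z, hz, c, hc, h3⟩ := invol (e ⟨_, h1⟩).2 (h2 ▸ pow_orderOf_eq_one _) fun h => by simp [h] at h2
    obtain ⟨c, rfl⟩ : ∃ c', (e c').1 = c := ⟨e.symm ⟨c, hc⟩, by simp⟩
    obtain ⟨r, -, r1, r2, r3, r4⟩ : ∃ r ∈ [([], [5]), ([1, 3, 2, 3, 1], [1, 3, 2, 3, 1, 5, 2, 4, 1, 4, 2]), ([3], [3, 5, 4])],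
        RB tbl 80 pts r.2 z ∧ (∀ x ∈ r.1 ++ r.2, x ∈ L) ∧ Comp.eqP tbl [0, 1, 4116] L (r.2 ++ [5]) 1 (5 :: r.2) = true ∧
        Comp.eqP tbl [0, 1, 4116] L (r.1 ++ [5]) 1 (r.2 ++ r.1) = true := by clear h3; revert z; decide +kernel
    replace r3 := eqJ r3
    replace r4 := eqJ r4
    simp only [Comp.ev_append, Comp.ev_single] at r3 r4
    rw [← he ⟨⟨_, ev_mem fun x hx => mem_cl (r2 x (List.mem_append_right _ hx))⟩,
      mem_centralizer_singleton_iff.2 (Subtype.ext r3)⟩ _ _ r1 rfl, ← coe_inv, ← coe_mul, ← coe_mul, ← map_inv,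
      ← map_mul, ← map_mul] at h3
    have h4 := congrArg (·.1.1) (e.injective (Subtype.ext h3))
    refine isConj_iff.2 ⟨g * c * ⟨ev (gp nets) r.1, ev_mem fun x hx => mem_cl (r2 x (List.mem_append_left _ hx))⟩,
      Subtype.ext ?_⟩
    calc _ = g.1 * (c.1.1 * (ev (gp nets) r.1 * gp nets 5 * (ev (gp nets) r.1)⁻¹) * c.1.1⁻¹) * g.1⁻¹ := by
          simp only [coe_mul, coe_inv, t]; group
      _ = _ := by rw [r4, mul_inv_cancel_right]; exact (congrArg (g.1 * · * g.1⁻¹) h4).symm.trans (by simp [mul_assoc])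
  refine ⟨fun x y hx hy => ?_, f t, ?_, ⟨(centralizerEquiv f t).symm.trans e⟩⟩
  · obtain ⟨x, rfl⟩ := f.surjective x
    obtain ⟨y, rfl⟩ := f.surjective y
    exact f.toMonoidHom.map_isConj ((k x (f.orderOf_eq x ▸ hx)).symm.trans (k y (f.orderOf_eq y ▸ hy)))
  · rw [f.orderOf_eq, ← orderOf_coe]
    refine orderOf_eq_prime ?_ fun h => Comp.ne_of_wap (Comp.tbA_pt nets_ok) (u := [5]) (w := []) (p := 1)
      (by decide +kernel) ((Comp.ev_single _ _).trans h)
    have := nets_rel ([5], 1) (by decide +kernel)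
    rwa [Comp.ev_single] at this

end Cfsg.Lib.J3
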