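/-
The triple cover of the third Janko group acting on the vectors of its 9-space.
-/
import Cfsg.Agent.Lib.Comp.J3x.Mat
import Cfsg.Agent.Lib.Golay.Hash

set_option autoImplicit false
set_option maxRecDepth 100000

namespace Cfsg.Lib.J3

open Subgroup Matrix Cfsg.Lib.Comp Cfsg.Lib.MatB Cfsg.Spor Cfsg.Lib.Comp.J3x

/-- a product of elementary maps `xᵢ ↦ xᵢ + xⱼ` on `k`-bit numbers, `32 i + j ∈ T`. -/
noncomputable def tnet (k : ℕ) (T : List ℕ) : Net :=
  List.rec Net.nil (fun t _ r => Net.cons (Nat.shiftLeft 1 (Nat.div t 32))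
    (Nat.land (pat k (Nat.mod t 32)) (Nat.xor (pat k (Nat.div t 32)) (ones (Nat.shiftLeft 1 k)))) r) T

/-- the sum of some coordinate functions. -/
noncomputable def xsum (k : ℕ) (c : ℕ → Bool) (m : ℕ) : ℕ :=
  Nat.rec 0 (fun i r => force r fun r => cnd (c i) (Nat.xor (pat k i) r) r) m

theorem xsum_xor {k a b : ℕ} (ha : a < 2 ^ k) (hb : b < 2 ^ k) (c : ℕ → Bool) (m : ℕ) :
    (xsum k c m).testBit (a ^^^ b) = ((xsum k c m).testBit a ^^ (xsum k c m).testBit b) := by
  induction m with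
  | zero => simp [xsum]
  | succ m ih =>
    have e : xsum k c (m + 1) = cnd (c m) (pat k m ^^^ xsum k c m) (xsum k c m) := force_eq _ _
    rw [e]
    cases c m
    · exact ih
    · simp only [cnd_true, Nat.testBit_xor, ih, testBit_pat, ha, hb, Nat.xor_lt_two_pow ha hb, decide_true,
        Bool.true_and]
      generalize a.testBit m = x, b.testBit m = y, (xsum k c m).testBit a = u, (xsum k c m).testBit b = v
      revert x y u v; decide

/-- the network is additive. -/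
noncomputable def linB (k : ℕ) (n : Net) : Bool :=
  allN k fun j => Nat.beq (app n (pat k j)) (xsum k (fun i => Nat.testBit (ptInv n (Nat.shiftLeft 1 i)) j) k)

theorem xor_of_linB {k : ℕ} {n : Net} (hn : n.ok (2 ^ k)) (h : linB k n = true) {a b : ℕ} (ha : a < 2 ^ k)
    (hb : b < 2 ^ k) : n.perm⁻¹ (a ^^^ b) = n.perm⁻¹ a ^^^ n.perm⁻¹ b := by
  have l : ∀ {p}, p < 2 ^ k → n.perm⁻¹ p < 2 ^ k := (fx_perm hn).inv.lt
  refine eq_of_bits (l (Nat.xor_lt_two_pow ha hb)) (Nat.xor_lt_two_pow (l ha) (l hb)) fun j hj => ?_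
  have e : ∀ {p}, p < 2 ^ k → (n.perm⁻¹ p).testBit j = (app n (pat k j)).testBit p := fun hp => by
    rw [testBit_app hn, testBit_pat, decide_eq_true (l hp), Bool.true_and]
  rw [Nat.testBit_xor, e ha, e hb, e (Nat.xor_lt_two_pow ha hb), beq_tt.1 (allN_iff.1 h j hj), xsum_xor ha hb]

theorem xor_induction {k : ℕ} {P : ℕ → Prop} (h0 : P 0) (h1 : ∀ j < k, P (2 ^ j))
    (h2 : ∀ a < 2 ^ k, ∀ b < 2 ^ k, P a → P b → P (a ^^^ b)) : ∀ p < 2 ^ k, P p := by
  suffices ∀ m ≤ k, ∀ p < 2 ^ m, P p from this k le_rfl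
  intro m
  induction m with
  | zero => intro _ p hp; obtain rfl : p = 0 := by omega
            exact h0
  | succ m ih =>
    intro hm p hp
    rcases lt_or_ge p (2 ^ m) with h | h
    · exact ih (by omega) p h
    have l : p ^^^ 2 ^ m < 2 ^ m := Nat.lt_pow_two_of_testBit _ fun i hi => by
      rcases hi.eq_or_lt with rfl | hi
      · rw [Nat.testBit_xor, Nat.testBit_of_two_pow_le_and_two_pow_add_one_gt h hp, Nat.testBit_two_pow_self]; rfl
      · rw [Nat.testBit_xor, Nat.testBit_lt_two_pow (hp.trans_le (Nat.pow_le_pow_right two_pos hi)),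
          Nat.testBit_two_pow_of_ne hi.ne]; rfl
    have m' : 2 ^ m < 2 ^ k := Nat.pow_lt_pow_right one_lt_two hm
    have := h2 _ (l.trans m') _ m' (ih (by omega) _ l) (h1 m hm)
    rwa [Nat.xor_assoc, Nat.xor_self, Nat.xor_zero] at this

/-- population count of `8 * 2 ^ k` bits. -/
noncomputable def popD (k : ℕ) : ℕ → ℕ :=
  Nat.rec (Golay.popN 8) (fun k r m => force (Nat.mul 8 (Nat.pow 2 k)) fun s =>
    force (Nat.mod m (Nat.pow 2 s)) fun a => force (Nat.shiftRight m s) fun b => Nat.add (r a) (r b)) k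

theorem popD_eq (k m : ℕ) : popD k m = Golay.popN (8 * 2 ^ k) m := by
  induction k generalizing m with
  | zero => rfl
  | succ k ih =>
    have e : popD (k + 1) m = popD k (m % 2 ^ (8 * 2 ^ k)) + popD k (m >>> (8 * 2 ^ k)) := by
      simp only [popD, force_eq]; rfl
    rw [e, ih, ih, Golay.popN_mod, ← Golay.popN_add, pow_succ, ← mul_assoc, mul_two]

theorem rel_cl {A B : Type*} [Group A] [Group B] (K : Subgroup (A × B)) {α : ℕ → A} {β : ℕ → B} {L : List ℕ}
    (h : ∀ x ∈ L, (α x, β x) ∈ K) : (∀ a ∈ cl α L, ∃ b ∈ cl β L, (a, b) ∈ K) ∧ ∀ b ∈ cl β L, ∃ a ∈ cl α L, (a, b) ∈ K := by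
  have h1 : (cl (fun x => (α x, β x)) L).map (MonoidHom.fst A B) = cl α L := cl_map _ _ _
  have h2 : (cl (fun x => (α x, β x)) L).map (MonoidHom.snd A B) = cl β L := cl_map _ _ _
  rw [← h1, ← h2]
  constructor <;> rintro _ ⟨s, hs, rfl⟩ <;> exact ⟨_, mem_map_of_mem _ hs, cl_le.2 h hs⟩

/-- a bit as a field element. -/
def bt (b : Bool) : K4 := if b then 1 else 0

/-- the vector with code `p`. -/
def dec0 (p : ℕ) (z : F9) : K4 := bt (p.testBit (e9 z)) + bt (p.testBit (9 + e9 z)) * w0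

theorem dec0_xor (a b : ℕ) : dec0 (a ^^^ b) = dec0 a + dec0 b := funext fun z => by
  simp only [dec0, Nat.testBit_xor, Pi.add_apply]
  generalize a.testBit (e9 z) = x, a.testBit (9 + e9 z) = y, b.testBit (e9 z) = u, b.testBit (9 + e9 z) = v
  revert x y u v; decide +kernel

theorem dec0_inj {a b : ℕ} (ha : a < 2 ^ 18) (hb : b < 2 ^ 18) (h : dec0 a = dec0 b) : a = b := by
  refine eq_of_bits ha hb fun j hj => ?_
  obtain ⟨z, hz⟩ : ∃ z, j = e9 z ∨ j = 9 + e9 z := by revert j; decide +kernel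
  have := (show ∀ x y u v, bt x + bt y * w0 = bt u + bt v * w0 → x = u ∧ y = v by decide +kernel) _ _ _ _ (congrFun h z)
  rcases hz with rfl | rfl
  exacts [this.1, this.2]

/-- a generator as a product of elementary maps. -/
def T1 : List ℕ :=
  [76, 324, 428, 131, 494, 108, 355, 394, 41, 526, 195, 237, 260, 296, 461, 11, 1, 169, 160, 320, 384, 416, 544, 65,
    97, 161, 289, 385, 481, 98, 258, 322, 546, 3, 131, 163, 387, 451, 547, 4, 196, 228, 388, 420, 170, 5, 37, 69,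
    101, 197, 293, 325, 389, 453, 485, 200, 6, 70, 102, 262, 294, 326, 358, 390, 454, 518, 39, 167, 263, 295, 327,
    455, 487, 266, 8, 72, 104, 200, 328, 360, 300, 9, 41, 137, 169, 233, 329, 393, 553, 332, 10, 42, 74, 106, 170,
    362, 394, 458, 490, 364, 43, 171, 203, 267, 395, 459, 398, 44, 76, 140, 204, 236, 332, 460, 556, 431, 13, 45,
    237, 269, 333, 365, 397, 493, 46, 110, 174, 206, 270, 334, 366, 398, 430, 494, 526, 558, 15, 47, 79, 111, 175,
    239, 303, 463, 16, 208, 240, 304, 400, 432, 17, 81, 145, 369, 401, 433, 497, 529]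

/-- a generator as a product of elementary maps. -/
def T3 : List ℕ :=
  [240, 106, 35, 13, 70, 96, 129, 162, 291, 329, 426, 367, 235, 384, 459, 174, 494, 514, 208, 97, 323, 4, 420, 453,
    70, 487, 519, 298, 394, 44, 108, 300, 332, 428, 13, 45, 109, 141, 397, 78, 206, 367]

/-- a generator as a product of elementary maps. -/
def T5 : List ℕ :=
  [515, 448, 44, 65, 137, 388, 240, 98, 160, 194, 352, 10, 5, 3, 544, 37, 129, 201, 335, 325, 298, 422, 525, 128,
    224, 288, 320, 129, 193, 225, 257, 289, 449, 513, 79, 34, 98, 130, 162, 194, 226, 290, 450, 482, 514, 291, 451,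
    260, 356, 388, 484, 5, 101, 133, 229, 325, 357, 389, 421, 453, 485, 517, 202, 6, 38, 70, 166, 326, 358, 422, 454,
    486, 135, 263, 359, 391, 423, 272, 8, 104, 168, 232, 360, 456, 488, 520, 299, 41, 73, 105, 169, 201, 233, 361,
    393, 425, 521, 426, 554, 43, 75, 139, 171, 299, 491, 523, 555, 204, 268, 332, 492, 556, 432, 13, 77, 237, 269,
    301, 397, 493, 525, 557, 14, 78, 142, 206, 238, 302, 334, 430, 494, 526, 15, 47, 143, 207, 239, 303, 335, 367,
    559, 80, 144, 240, 272, 400, 496, 560, 17, 177, 337, 369, 433, 465, 497]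

/-- a generator as a product of elementary maps. -/
def T6 : List ℕ :=
  [197, 360, 559, 64, 161, 385, 140, 458, 7, 103, 104, 424, 480, 525, 234, 239, 273, 430, 301, 9, 32, 160, 192, 224,
    320, 1, 129, 161, 225, 257, 289, 321, 353, 162, 450, 482, 3, 35, 131, 163, 227, 259, 323, 355, 387, 515, 134, 36,
    68, 196, 292, 324, 452, 484, 548, 169, 69, 229, 261, 293, 453, 6, 38, 230, 262, 294, 326, 422, 238, 71, 103, 167,
    199, 263, 423, 455, 487, 519, 40, 72, 104, 136, 328, 392, 424, 456, 488, 520, 552, 9, 41, 73, 105, 137, 201, 233,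
    425, 10, 106, 170, 266, 298, 426, 458, 490, 554, 11, 43, 75, 107, 139, 203, 235, 299, 395, 427, 491, 555, 12, 44,
    172, 204, 428, 492, 524, 556, 430, 13, 141, 173, 365, 397, 461, 525, 557, 78, 174, 238, 270, 302, 494, 558, 47,
    143, 207, 303, 335, 367, 463, 559, 16, 48, 80, 240, 272, 304, 400, 432, 464, 496, 560, 17, 49, 113, 209, 241,
    305, 369, 401, 465, 497, 529]

/-- a generator as a product of elementary maps. -/
def T7 : List ℕ :=
  [9, 42, 75, 108, 141, 174, 207, 240, 273, 288, 321, 354, 387, 420, 453, 486, 519, 552]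

/-- the generators on codes of vectors. -/
noncomputable def vn : List Net := [Net.nil, tnet 18 T1, (tnet 18 T1).rev, tnet 18 T3, (tnet 18 T3).rev,
  tnet 18 T5, tnet 18 T6, tnet 18 T7]

theorem vn_ok : NetsOK (2 ^ 18) vn := netsOK_of (by decide +kernel)

theorem vn_lin : ∀ x ∈ 7 :: L, linB 18 (nth Net.nil vn x) = true := by decide +kernel

theorem vn_mat : ∀ x ∈ 7 :: L, ∀ j < 18, M1 x *ᵥ dec0 (ptInv (nth Net.nil vn x) (2 ^ j)) = dec0 (2 ^ j) := by
  decide +kernel

theorem vn_act {x : ℕ} (hx : x ∈ 7 :: L) {p : ℕ} (hp : p < 2 ^ 18) : dec0 (gp vn x p) = M1 x *ᵥ dec0 p := by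
  have ok : (nth Net.nil vn x).ok (2 ^ 18) := vn_ok x
  have l := fun a ha b hb => xor_of_linB ok (vn_lin x hx) (a := a) (b := b) ha hb
  have := xor_induction (k := 18) (P := fun p => M1 x *ᵥ dec0 ((nth Net.nil vn x).perm⁻¹ p) = dec0 p) (by
      have := l 0 (by norm_num) 0 (by norm_num)
      rw [Nat.xor_self, Nat.xor_self] at this
      rw [this, show dec0 0 = 0 by decide +kernel, mulVec_zero])
    (fun j hj => by rw [← ptInv_eq ok]; exact vn_mat x hx j hj)
    (fun a ha b hb h1 h2 => by rw [l a ha b hb, dec0_xor, dec0_xor, mulVec_add, h1, h2]) _ ((vn_ok.fx x).lt hp)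
  rw [← this]
  exact congrArg (M1 x *ᵥ dec0 ·) (Equiv.symm_apply_apply _ p)

/-- the orbit of the first basis vector. -/
noncomputable def O1 : ℕ := orb vn [1, 3, 5, 6, 7, 1, 3, 1, 5, 6, 1, 3, 5, 1, 3, 6, 1, 5, 3, 1, 6, 1, 5] (Nat.shiftLeft 1 1)

theorem O1_b : force O1 (fun D => cnd (invB vn (7 :: L) D) (Nat.beq (popD 15 D) 69768) false) = true := by
  decide +kernel

/-- the vectors of odd weight. -/
noncomputable def odd : ℕ := List.rec 1 (fun j _ r => Nat.xor (Nat.lor (pat 18 j) (pat 18 (Nat.add 9 j))) r)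
  [0, 1, 2, 3, 4, 5, 6, 7, 8]

theorem O2_b : Nat.beq (Nat.lor odd (orb vn [1, 3, 5, 6, 7, 1, 3, 1, 5, 6, 1, 3, 5, 1, 3, 6, 1, 5, 3, 1, 6, 1, 3, 1]
    (Nat.shiftLeft 1 3))) (ones 262144) = true := by decide +kernel

theorem odd_bit {p : ℕ} (hp : p < 2 ^ 18) (h0 : p ≠ 0) (h : ∑ z, dec0 p z ^ 3 = 0) : odd.testBit p = false := by
  have a : ∀ x y, (bt x + bt y * w0) ^ 3 = bt (x || y) := by decide +kernel
  have b : ∀ x y, bt (x ^^ y) = bt x + bt y := by decide +kernel
  have c : ∀ f : ℕ → K4, ∑ z, f (e9 z) = f 0 + (f 1 + (f 2 + (f 3 + (f 4 + (f 5 + (f 6 + (f 7 + (f 8 + 0)))))))) :=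
    fun f => rfl
  simp only [dec0, a] at h
  rw [c fun j => bt (p.testBit j || p.testBit (9 + j))] at h
  refine (show ∀ x, bt x = 0 → x = false by decide +kernel) _ ?_
  simp only [odd, xor_eq', lor_eq', Nat.testBit_xor, Nat.testBit_or, testBit_pat, hp, decide_true, Bool.true_and, b,
    Nat.testBit_one_eq_true_iff_self_eq_zero.not.2 h0 |> Bool.eq_false_iff.2]
  exact h

theorem ncard_lines {F V : Type*} [Field F] [Fintype F] [AddCommGroup V] [Module F V] {T : Set V} (hT : T.Finite)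
    (h0 : 0 ∉ T) (h : ∀ v ∈ T, ∀ c : F, c ≠ 0 → c • v ∈ T) :
    T.ncard = ((fun v => F ∙ v) '' T).ncard * (Fintype.card F - 1) := by
  classical
  lift T to Finset V using hT
  rw [← Finset.coe_image, Set.ncard_coe_finset, Set.ncard_coe_finset, Finset.card_eq_sum_card_image (fun v => F ∙ v),
    ← smul_eq_mul, ← Finset.sum_const]
  refine Finset.sum_congr rfl fun l hl => ?_
  obtain ⟨v, hv, rfl⟩ := Finset.mem_image.1 hl
  rw [← Finset.card_univ, ← Finset.card_erase_of_mem (Finset.mem_univ (0 : F))]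
  refine (Finset.card_bij (fun c _ => c • v) (fun c hc => Finset.mem_filter.2 ⟨h v hv c (Finset.ne_of_mem_erase hc),
    Submodule.span_singleton_smul_eq (Finset.ne_of_mem_erase hc).isUnit v⟩)
    (fun a _ b _ e => smul_left_injective F (fun e => h0 (e ▸ hv)) e) fun w hw => ?_).symm
  obtain ⟨h1, h2⟩ := Finset.mem_filter.1 hw
  obtain ⟨c, rfl⟩ := Submodule.mem_span_singleton.1 (h2.le (Submodule.mem_span_singleton_self w))
  exact ⟨c, by simpa using fun e => h0 (by simpa [e] using h1), rfl⟩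

theorem orbits {F : Type} [Field F] [Fintype F] (hF : Fintype.card F = 4) (φ : K4 →+* F) :
    {l : Submodule F (F9 → F) | ∃ g ∈ threeJ3 F (φ w0), l = F ∙ ((g : Matrix F9 F9 F) *ᵥ Pi.single 0 1)}.ncard = 23256 ∧
    ∀ v : F9 → F, v ≠ 0 → ∑ z, v z ^ 3 = 0 → ∃ g ∈ threeJ3 F (φ w0), (g : Matrix F9 F9 F) *ᵥ (φ ∘ dec0 3) = v := by
  obtain ⟨γ, h1, h2⟩ := three_eq φ
  have k : ∀ x ∈ 7 :: L, ∀ p < 2 ^ 18, φ ∘ dec0 (gp vn x p) = (γ x : Matrix F9 F9 F) *ᵥ (φ ∘ dec0 p) := fun x hx p hp =>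
    funext fun z => by
      rw [show (γ x : Matrix F9 F9 F) = _ from h1 x (by clear hp; revert x; decide), ← RingHom.map_mulVec,
        ← vn_act hx hp]; rfl
  obtain ⟨h3, h4⟩ := rel_cl (B := GL F9 F) (α := gp vn) (β := γ) (L := 7 :: L)
    { carrier := {x | Fx (2 ^ 18) x.1 ∧ ∀ p < 2 ^ 18, φ ∘ dec0 (x.1 p) = (x.2 : Matrix F9 F9 F) *ᵥ (φ ∘ dec0 p)}
      one_mem' := ⟨Fx.one _, fun p _ => (one_mulVec _).symm⟩
      mul_mem' := fun {a b} ha hb => ⟨ha.1.mul hb.1, fun p hp => by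
        rw [Prod.snd_mul, Units.val_mul, ← mulVec_mulVec, ← hb.2 p hp, ← ha.2 _ (hb.1.lt hp)]; rfl⟩
      inv_mem' := fun {a} ha => ⟨ha.1.inv, fun p hp => by
        have := ha.2 _ (ha.1.inv.lt hp)
        rw [show a.1 (a.1⁻¹ p) = p from Equiv.apply_symm_apply _ p] at this
        rw [this, mulVec_mulVec, Prod.snd_inv, Units.inv_mul, one_mulVec]; rfl⟩ }
    fun x hx => ⟨vn_ok.fx x, k x hx⟩
  rw [← h2] at h3 h4
  have inj : ∀ a < 2 ^ 18, ∀ b < 2 ^ 18, φ ∘ dec0 a = φ ∘ dec0 b → a = b := fun a ha b hb e =>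
    dec0_inj ha hb (funext fun z => φ.injective (congrFun e z))
  have sur : ∀ v, ∃ p < 2 ^ 18, φ ∘ dec0 p = v := fun v => by
    obtain ⟨p, hp⟩ := ((Fintype.bijective_iff_injective_and_card fun p : Fin (2 ^ 18) => φ ∘ dec0 p).2
      ⟨fun a b e => Fin.ext (inj _ a.2 _ b.2 e), by simp [hF]⟩).2 v
    exact ⟨p, p.2, hp⟩
  have e1 : φ ∘ dec0 1 = Pi.single 0 1 := by
    rw [show dec0 1 = Pi.single 0 1 by decide +kernel]
    exact funext fun z => Pi.apply_single (fun _ => φ) (fun _ => map_zero φ) 0 1 z |>.trans (by rw [map_one])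
  have one : ∀ {q b}, (Nat.shiftLeft 1 b).testBit q = true → q = b := fun h => by
    rw [shl_eq, Nat.one_shiftLeft, Nat.testBit_two_pow] at h
    exact (of_decide_eq_true h).symm
  refine ⟨?_, fun v hv hs => ?_⟩
  · obtain ⟨a1, a2⟩ := cnd_tt.1 ((force_eq _ _).symm.trans O1_b)
    let S := (Finset.range (2 ^ 18)).filter fun p => O1.testBit p = true
    have a3 : (fun p => φ ∘ dec0 p) '' S = {v | ∃ g ∈ threeJ3 F (φ w0), v = (g : Matrix F9 F9 F) *ᵥ Pi.single 0 1} := by
      ext v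
      constructor
      · rintro ⟨p, hp, rfl⟩
        obtain ⟨s, hs, q, hq, rfl⟩ := orb_sound vn_ok (G := cl (gp vn) (7 :: L)) (fun x hx => mem_cl (by
          revert x; decide)) _ p (Finset.mem_filter.1 hp).2
        obtain ⟨g, hg, b⟩ := h3 s hs
        exact ⟨g, hg, by rw [one hq, ← e1]; exact b.2 1 (by norm_num)⟩
      · rintro ⟨g, hg, rfl⟩
        obtain ⟨s, hs, b⟩ := h4 g hg
        exact ⟨s 1, Finset.mem_coe.2 (Finset.mem_filter.2 ⟨Finset.mem_range.2 (b.1.lt (by norm_num)),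
          (invB_sound vn_ok a1 hs 1).trans (by decide +kernel)⟩), by rw [← e1]; exact b.2 1 (by norm_num)⟩
    have a4 := ncard_lines (F := F) (S.finite_toSet.image fun p => φ ∘ dec0 p) (by
      rw [a3]
      rintro ⟨g, -, e⟩
      have := congrArg (((g⁻¹ : GL F9 F) : Matrix F9 F9 F) *ᵥ ·) e
      simp only [mulVec_zero, mulVec_mulVec, Units.inv_mul, one_mulVec] at this
      simpa using congrFun this 0) (by
      rw [a3]
      rintro _ ⟨g, hg, rfl⟩ c hc
      obtain ⟨c, rfl⟩ := ((Fintype.bijective_iff_injective_and_card φ).2 ⟨φ.injective, card_K4.trans hF.symm⟩).2 c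
      obtain ⟨i, -, rfl⟩ : ∃ i < 3, c = w0 ^ i :=
        (show ∀ c : K4, c = 0 ∨ ∃ i < 3, c = w0 ^ i by decide +kernel) c |>.resolve_left fun e => hc (by simp [e])
      refine ⟨γ 7 ^ i * g, mul_mem (pow_mem (h2 ▸ mem_cl List.mem_cons_self) i) hg, ?_⟩
      rw [Units.val_mul, Units.val_pow_eq_pow_val, show (γ 7 : Matrix F9 F9 F) = _ from h1 7 (by norm_num),
        show M1 7 = diagonal fun _ => w0 by decide +kernel, diagonal_map (map_zero φ), ← smul_one_eq_diagonal, smul_pow,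
        one_pow, smul_mul_assoc, one_mul, smul_mulVec, map_pow])
    rw [Set.InjOn.ncard_image fun a ha b hb => inj a (Finset.mem_range.1 (Finset.mem_filter.1 ha).1) b
      (Finset.mem_range.1 (Finset.mem_filter.1 hb).1), Set.ncard_coe_finset, a3, hF] at a4
    have a5 : S.card = 69768 := by
      rw [← beq_tt.1 a2, popD_eq, Golay.popN_eq, show 8 * 2 ^ 15 = 2 ^ 18 by norm_num]
    rw [a5] at a4
    refine Eq.trans (congrArg _ (Set.ext fun l => ?_)) (Nat.eq_of_mul_eq_mul_right three_pos (a4.symm.trans rfl))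
    exact ⟨fun ⟨g, hg, e⟩ => ⟨_, ⟨g, hg, rfl⟩, e.symm⟩, fun ⟨_, ⟨g, hg, rfl⟩, e⟩ => ⟨g, hg, e.symm⟩⟩
  · obtain ⟨p, hp, rfl⟩ := sur v
    have a1 := congrArg (·.testBit p) (beq_tt.1 O2_b)
    simp only [lor_eq', Nat.testBit_or, testBit_ones, odd_bit hp (by
      rintro rfl; exact hv (by rw [show dec0 0 = 0 by decide +kernel]; ext; simp)) (φ.injective (by simpa using hs)),
      Bool.false_or, show p < 262144 from hp, decide_true] at a1
    obtain ⟨s, hs', q, hq, rfl⟩ := orb_sound vn_ok (G := cl (gp vn) (7 :: L)) (fun x hx => mem_cl (by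
      revert x; decide)) _ p a1
    obtain ⟨g, hg, b⟩ := h3 s hs'
    exact ⟨g, hg, by rw [one hq]; exact (b.2 3 (by norm_num)).symm⟩

end Cfsg.Lib.J3
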